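import Groth.Agent.H26Van.Nbhd
import Mathlib

/-!
# The vanishing locus of a morphism into a flat module with proper support
-/

set_option autoImplicit false
set_option linter.style.haveILetI false
set_option backward.isDefEq.respectTransparency false
set_option backward.isDefEq.respectTransparency.types false

universe u

open CategoryTheory CategoryTheory.Limits AlgebraicGeometry TopologicalSpace TensorProduct

namespace Groth.Agent.H26Van

open H8Props H06Mod

variable {Y S : Scheme.{u}} (q : Y ⟶ S) {G F : Y.Modules} (σ : G ⟶ F)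

/-- An element killed by a jointly surjective flat family is zero. -/
theorem eq_zero_of_forall_one_tmul {A C : Type u} [CommRing A] [CommRing C] [Algebra A C] {ι : Type u} [Fintype ι]
    (R : ι → Type u) [∀ k, CommRing (R k)] [∀ k, Algebra A (R k)] [∀ k, Module.Flat A (R k)]
    (hsur : ∀ p : PrimeSpectrum A, ∃ k, p ∈ Set.range (PrimeSpectrum.comap (algebraMap A (R k))))
    (c : C) (h : ∀ k, (1 : R k) ⊗ₜ[A] c = 0) : c = 0 := by
  classical
  haveI : Module.Flat A (∀ k, R k) := Module.Flat.of_linearEquiv (DFinsupp.linearEquivFunOnFintype (R := A) (M := R)).symm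
  haveI : Module.FaithfullyFlat A (∀ k, R k) := Module.FaithfullyFlat.of_comap_surjective fun p => by
    obtain ⟨k, P, hP⟩ := hsur p
    exact ⟨PrimeSpectrum.comap (Pi.evalRingHom R k) P, by rw [← hP]; rfl⟩
  refine Module.FaithfullyFlat.tensorProduct_mk_injective (A := A) (B := ∀ k, R k) C ?_
  rw [TensorProduct.mk_apply, TensorProduct.mk_apply, tmul_zero]
  apply (TensorProduct.comm A (∀ k, R k) C).injective
  apply (TensorProduct.piRight A A C R).injective
  rw [map_zero, map_zero, TensorProduct.comm_tmul, TensorProduct.piRight_apply]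
  funext k
  rw [TensorProduct.piRightHom_tmul]
  have := congrArg (TensorProduct.comm A (R k) C) (h k)
  rwa [map_zero, TensorProduct.comm_tmul] at this

set_option maxHeartbeats 1600000 in
/-- The vanishing ideal over an affine open. -/
theorem exists_affine [IsProper q] [LocallyOfFinitePresentation q] (hG : Coh.IsQCoh G) (hFP : CohB1.IsFP F)
    (hFfl : FlatMod.IsFlatOver q F) (W : S.affineOpens) :
    ∃ J : Ideal Γ(S, W.1), ∀ (C : CommRingCat.{u}) (φ : Γ(S, W.1) ⟶ C),
      Van σ (pullback.fst q (Spec.map φ ≫ W.2.fromSpec)) ↔ J ≤ RingHom.ker φ.hom := by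
  classical
  choose R ψ J hEt hmem hcrit using fun s : {s : S // s ∈ W.1} => exists_nbhd q σ hG hFP hFfl W.2 s.1 s.2
  obtain ⟨t, ht⟩ := W.2.isCompact.elim_finite_subcover
    (fun s => Set.range (Spec.map (ψ s) ≫ W.2.fromSpec)) (fun s => by
      haveI := hEt s
      exact (Spec.map (ψ s) ≫ W.2.fromSpec).isOpenMap.isOpen_range)
    (fun s hs => Set.mem_iUnion.2 ⟨⟨s, hs⟩, hmem ⟨s, hs⟩⟩)
  let ι := {s // s ∈ t}
  let Rk : ι → Type u := fun k => R k.1
  letI : ∀ k : ι, CommRing (Rk k) := fun k => inferInstanceAs (CommRing (R k.1))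
  letI : ∀ k : ι, Algebra Γ(S, W.1) (Rk k) := fun k => (ψ k.1).hom.toAlgebra
  haveI : ∀ k : ι, Module.Flat Γ(S, W.1) (Rk k) := fun k => by
    haveI := hEt k.1
    exact RingHom.flat_algebraMap_iff.1 ((HasRingHomProperty.Spec_iff (P := @Flat)).1
      (show Flat (Spec.map (ψ k.1)) from inferInstance))
  have hsur : ∀ p : Spec Γ(S, W.1), ∃ k : ι, p ∈ Set.range (Spec.map (ψ k.1)) := fun p => by
    obtain ⟨s, hs, x, hx⟩ := Set.mem_iUnion₂.1 (ht (W.2.range_fromSpec.le ⟨p, rfl⟩))
    exact ⟨⟨s, hs⟩, x, W.2.fromSpec.isOpenEmbedding.injective hx⟩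
  -- vanishing after a change of rings to one of the members
  have hmember : ∀ (k : ι) (D : CommRingCat.{u}) (φ : Γ(S, W.1) ⟶ D) (χ : R k.1 ⟶ D), ψ k.1 ≫ χ = φ →
      (Van σ (pullback.fst q (Spec.map φ ≫ W.2.fromSpec)) ↔ J k.1 ≤ RingHom.ker χ.hom) := fun k D φ χ hχ => by
    subst hχ; exact hcrit k.1 D χ
  obtain ⟨J₀, hJ₀, hJ₀k⟩ := exists_descended_ideal Rk (fun k => J k.1) fun k l x hx => by
    let D := Rk k ⊗[Γ(S, W.1)] (Rk l ⧸ J l.1)
    let φD : Γ(S, W.1) ⟶ CommRingCat.of D := CommRingCat.ofHom (algebraMap Γ(S, W.1) D)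
    have hl : Van σ (pullback.fst q (Spec.map φD ≫ W.2.fromSpec)) :=
      (hmember l (CommRingCat.of D) φD (CommRingCat.ofHom
        ((Algebra.TensorProduct.includeRight : (Rk l ⧸ J l.1) →ₐ[Γ(S, W.1)] D).toRingHom.comp
          (Ideal.Quotient.mk (J l.1)))) (by
        ext a
        exact (Algebra.TensorProduct.includeRight : (Rk l ⧸ J l.1) →ₐ[Γ(S, W.1)] D).commutes a)).2 (fun y hy => by
          rw [RingHom.mem_ker]
          show (Algebra.TensorProduct.includeRight : (Rk l ⧸ J l.1) →ₐ[Γ(S, W.1)] D) (Ideal.Quotient.mk (J l.1) y) = 0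
          rw [Ideal.Quotient.eq_zero_iff_mem.2 hy, map_zero])
    exact (hmember k (CommRingCat.of D) φD (CommRingCat.ofHom (Algebra.TensorProduct.includeLeft :
      Rk k →ₐ[Γ(S, W.1)] D).toRingHom) (by
        ext a
        exact (Algebra.TensorProduct.includeLeft : Rk k →ₐ[Γ(S, W.1)] D).commutes a)).1 hl hx
  refine ⟨J₀, fun C φ => ?_⟩
  letI : Algebra Γ(S, W.1) C := φ.hom.toAlgebra
  letI : ∀ k : ι, Algebra C (Rk k ⊗[Γ(S, W.1)] C) := fun k => Algebra.TensorProduct.rightAlgebra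
  let D : ι → CommRingCat.{u} := fun k => CommRingCat.of (Rk k ⊗[Γ(S, W.1)] C)
  let χ : ∀ k, R k.1 ⟶ D k := fun k =>
    CommRingCat.ofHom (Algebra.TensorProduct.includeLeft : Rk k →ₐ[Γ(S, W.1)] Rk k ⊗[Γ(S, W.1)] C).toRingHom
  let ρ : ∀ k, C ⟶ D k := fun k =>
    CommRingCat.ofHom (Algebra.TensorProduct.includeRight : C →ₐ[Γ(S, W.1)] Rk k ⊗[Γ(S, W.1)] C).toRingHom
  have hχρ : ∀ k, ψ k.1 ≫ χ k = φ ≫ ρ k := fun k => by
    ext a
    exact ((Algebra.TensorProduct.includeLeft : Rk k →ₐ[Γ(S, W.1)] Rk k ⊗[Γ(S, W.1)] C).commutes a).trans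
      ((Algebra.TensorProduct.includeRight : C →ₐ[Γ(S, W.1)] Rk k ⊗[Γ(S, W.1)] C).commutes a).symm
  have hk : ∀ k, Van σ (pullback.fst q (Spec.map (ρ k) ≫ Spec.map φ ≫ W.2.fromSpec)) ↔
      J k.1 ≤ RingHom.ker (χ k).hom := fun k => by
    rw [← Spec.map_comp_assoc]
    exact hmember k (D k) _ (χ k) (hχρ k)
  constructor
  · intro h a ha
    rw [RingHom.mem_ker]
    refine eq_zero_of_forall_one_tmul Rk (fun p => hsur p) _ fun k => ?_
    have h1 : (χ k).hom (ψ k.1 a) = 0 := (hk k).1 (van_base_comp q σ _ _ h) ((hJ₀ a).1 ha k)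
    exact ((congr($(hχρ k) a) : (χ k).hom (ψ k.1 a) = (ρ k).hom (φ a)).symm.trans h1 :)
  · intro h
    refine van_base_of_cover q σ _ (fun k => Spec (D k)) (fun k => Spec.map (ρ k)) (fun k => ?_) (fun c => ?_)
      fun k => (hk k).2 ?_
    · have hsq : IsPullback (Spec.map (χ k)) (Spec.map (ρ k)) (Spec.map (ψ k.1)) (Spec.map φ) :=
        isPullback_SpecMap_of_isPushout (ψ k.1) φ (χ k) (ρ k)
          (CommRingCat.isPushout_of_isPushout Γ(S, W.1) (Rk k) C (Rk k ⊗[Γ(S, W.1)] C))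
      haveI := hEt k.1
      exact MorphismProperty.of_isPullback (P := @Flat) hsq inferInstance
    · obtain ⟨k, x, hx⟩ := hsur (Spec.map φ c)
      have hsq : IsPullback (Spec.map (χ k)) (Spec.map (ρ k)) (Spec.map (ψ k.1)) (Spec.map φ) :=
        isPullback_SpecMap_of_isPushout (ψ k.1) φ (χ k) (ρ k)
          (CommRingCat.isPushout_of_isPushout Γ(S, W.1) (Rk k) C (Rk k ⊗[Γ(S, W.1)] C))
      obtain ⟨r, -, hr⟩ := Scheme.Pullback.exists_preimage_pullback (f := Spec.map (ψ k.1)) (g := Spec.map φ) x c hx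
      exact ⟨k, hsq.isoPullback.inv r, by
        rw [← Scheme.Hom.comp_apply, IsPullback.isoPullback_inv_snd]; exact hr⟩
    · refine (hJ₀k k).symm.trans_le (Ideal.map_le_iff_le_comap.2 fun a ha => ?_)
      rw [Ideal.mem_comap, RingHom.mem_ker]
      refine (congr($(hχρ k) a) : (χ k).hom (ψ k.1 a) = (ρ k).hom (φ a)).trans ?_
      rw [RingHom.mem_ker.1 (h ha), map_zero]

/-- The vanishing locus. -/
theorem exists_vanishing_locus [IsProper q] [LocallyOfFinitePresentation q] (hG : Coh.IsQCoh G)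
    (hFP : CohB1.IsFP F) (hFfl : FlatMod.IsFlatOver q F) :
    ∃ I : S.IdealSheafData, ∀ (T : Scheme.{u}) (g : T ⟶ S),
      (∃ h : T ⟶ I.subscheme, h ≫ I.subschemeι = g) ↔ Van σ (pullback.fst q g) := by
  choose Iw hIw using exists_affine q σ hG hFP hFfl
  have hglob : ∀ (T : Scheme.{u}) (g : T ⟶ S),
      Van σ (pullback.fst q g) ↔
        ∀ (W : S.affineOpens) (V : T.affineOpens) (h : V.1 ≤ g ⁻¹ᵁ W.1), Iw W ≤ RingHom.ker (g.appLE W.1 V.1 h).hom := by
    intro T g
    constructor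
    · intro hv W V h
      refine (hIw W _ _).1 ?_
      rw [W.2.SpecMap_appLE_fromSpec g V.2 h]
      exact van_base_comp q σ g _ hv
    · intro hv
      have hex : ∀ x : T, ∃ (W : S.affineOpens) (V : T.affineOpens), x ∈ V.1 ∧ V.1 ≤ g ⁻¹ᵁ W.1 := fun x => by
        obtain ⟨W, hW, hxW, -⟩ := exists_isAffineOpen_mem_and_subset (x := g x) (U := (⊤ : S.Opens)) trivial
        obtain ⟨V, hV, hxV, hVW⟩ := exists_isAffineOpen_mem_and_subset (x := x) (U := g ⁻¹ᵁ W) hxW
        exact ⟨⟨W, hW⟩, ⟨V, hV⟩, hxV, hVW⟩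
      choose W V hxV hVW using hex
      refine van_base_of_cover q σ g (fun x => Spec Γ(T, (V x).1)) (fun x => (V x).2.fromSpec)
        (fun x => inferInstance) (fun x => ⟨x, (V x).2.range_fromSpec.ge (hxV x)⟩) fun x => ?_
      rw [← (W x).2.SpecMap_appLE_fromSpec g (V x).2 (hVW x)]
      exact (hIw _ _ _).2 (hv _ _ (hVW x))
  let I : S.IdealSheafData :=
    { ideal := Iw
      map_ideal_basicOpen := fun W r => by
        let W' := S.affineBasicOpen r
        let res := S.presheaf.map (homOfLE (S.basicOpen_le r)).op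
        have hres : Spec.map res ≫ W.2.fromSpec = W'.2.fromSpec :=
          W.2.map_fromSpec W'.2 (homOfLE (S.basicOpen_le r)).op
        have key : ∀ J : Ideal Γ(S, W'.1), (Iw W).map res.hom ≤ J ↔ Iw W' ≤ J := by
          intro J
          let q' : Γ(S, W'.1) ⟶ CommRingCat.of (Γ(S, W'.1) ⧸ J) :=
            CommRingCat.ofHom (Ideal.Quotient.mk J)
          have hq : RingHom.ker q'.hom = J := Ideal.mk_ker
          have h1 := hIw W' _ q'
          have h2 := hIw W _ (res ≫ q')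
          rw [Spec.map_comp, Category.assoc, hres, h1, hq, CommRingCat.hom_comp, ← RingHom.comap_ker, hq,
            ← Ideal.map_le_iff_le_comap] at h2
          exact h2.symm
        exact le_antisymm ((key _).mpr le_rfl) ((key _).mp le_rfl) }
  refine ⟨I, fun T f => ?_⟩
  rw [hglob]
  constructor
  · rintro ⟨g, hg⟩ W V hVW y hy
    have hle : I ≤ f.ker := by
      rw [← hg]
      exact le_of_eq_of_le I.ker_subschemeι.symm (Scheme.Hom.le_ker_comp _ _)
    have := f.ideal_ker_le W (hle W hy)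
    rw [RingHom.mem_ker] at this ⊢
    rw [Scheme.Hom.appLE, CommRingCat.hom_comp, RingHom.comp_apply, this, map_zero]
  · intro h
    refine ⟨IsClosedImmersion.lift I.subschemeι f ?_, IsClosedImmersion.lift_fac _ _ _⟩
    rw [Scheme.IdealSheafData.ker_subschemeι]
    exact H19Grp.le_ker_of_forall_appLE _ _ fun W V hVW => h W V hVW

end Groth.Agent.H26Van
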