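import Groth.Agent.H26Van.Alg
import Groth.Agent.H8Props.FunDescent.Functor
import Mathlib

/-!
# Vanishing of pullbacks of a morphism of modules
-/

set_option autoImplicit false
set_option linter.style.haveILetI false
set_option backward.isDefEq.respectTransparency false
set_option backward.isDefEq.respectTransparency.types false

universe u

open CategoryTheory CategoryTheory.Limits AlgebraicGeometry TopologicalSpace TensorProduct

namespace Groth.Agent.H26Van

open H8Props H06Mod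

/-- The pullback of `σ` along `a` is zero. -/
def Van {Y : Scheme.{u}} {G F : Y.Modules} (σ : G ⟶ F) {Z : Scheme.{u}} (a : Z ⟶ Y) : Prop :=
  (Scheme.Modules.pullback a).map σ = 0

variable {Y : Scheme.{u}} {G F : Y.Modules} {σ : G ⟶ F}

theorem van_comp_iff {Z Z' : Scheme.{u}} (b : Z' ⟶ Z) (a : Z ⟶ Y) :
    Van σ (b ≫ a) ↔ (Scheme.Modules.pullback b).map ((Scheme.Modules.pullback a).map σ) = 0 := by
  have h := (Scheme.Modules.pullbackComp b a).hom.naturality σ
  rw [Van]
  constructor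
  · intro h0
    rw [h0, comp_zero, Functor.comp_map] at h
    exact (cancel_mono ((Scheme.Modules.pullbackComp b a).hom.app F)).1 (h.trans zero_comp.symm)
  · intro h0
    rw [Functor.comp_map, h0, zero_comp] at h
    exact (cancel_epi ((Scheme.Modules.pullbackComp b a).hom.app G)).1 (h.symm.trans comp_zero.symm)

theorem Van.comp {Z Z' : Scheme.{u}} {a : Z ⟶ Y} (h : Van σ a) (b : Z' ⟶ Z) : Van σ (b ≫ a) := by
  rw [van_comp_iff, h, Functor.map_zero]

/-- Vanishing is detected on a flat covering family. -/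
theorem van_of_cover {Z : Scheme.{u}} (a : Z ⟶ Y) {ι : Type*} (Zi : ι → Scheme.{u}) (b : ∀ i, Zi i ⟶ Z)
    (hfl : ∀ i, Flat (b i)) (hsur : ∀ z : Z, ∃ i, z ∈ Set.range (b i)) (h : ∀ i, Van σ (b i ≫ a)) :
    Van σ a := by
  refine (FunDescent.eq_zero_iff _).2 fun z => ?_
  obtain ⟨i, z', rfl⟩ := hsur z
  haveI := hfl i
  exact FunDescent.stalkLin_eq_zero_of_pullback (b i) _ z'
    ((FunDescent.eq_zero_iff _).1 ((van_comp_iff (b i) a).1 (h i)) z')

/-- Vanishing on an affine scheme lying over an affine open. -/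
theorem van_specMap_iff (hG : Coh.IsQCoh G) (hF : Coh.IsQCoh F) {U : Y.Opens} (hU : IsAffineOpen U)
    {D : CommRingCat.{u}} (φ : Γ(Y, U) ⟶ D) :
    letI := φ.hom.toAlgebra
    Van σ (Spec.map φ ≫ hU.fromSpec) ↔ ∀ m, (1 : D) ⊗ₜ[Γ(Y, U)] FunDescent.secLin σ U m = 0 := by
  let g := Spec.map φ ≫ hU.fromSpec
  have hle : (⊤ : (Spec D).Opens) ≤ g ⁻¹ᵁ U := fun x _ => (hU.range_fromSpec.le ⟨Spec.map φ x, rfl⟩ : g x ∈ U)
  have happ : g.appLE U ⊤ hle = φ ≫ (Scheme.ΓSpecIso D).inv := by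
    rw [Scheme.Hom.comp_appLE, hU.fromSpec_app_self]
    simp [Scheme.Hom.appLE]
    rw [← Functor.map_comp, Subsingleton.elim (_ ≫ _) (𝟙 _)]
    erw [CategoryTheory.Functor.map_id, Category.comp_id]
  have h1 : Van σ g ↔ ∀ m, ((Scheme.Modules.pullback g).map σ).app (⊤ : (Spec D).Opens) m = 0 := by
    constructor
    · intro h m
      rw [show (Scheme.Modules.pullback g).map σ = 0 from h]
      rfl
    · intro h
      exact (FunDescent.eq_zero_iff _).2 fun x => FunDescent.stalkLin_eq_zero_of_app _ (isAffineOpen_top _)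
        trivial (H29Fitt.isQCoh_pullback g G hG) h
  letI alg := (g.appLE U ⊤ hle).hom.toAlgebra
  letI := φ.hom.toAlgebra
  show Van σ g ↔ _
  rw [h1, ← FunDescent.app_eq_zero_iff g σ hle hU (isAffineOpen_top _) hG hF]
  let e : D ≃ₐ[Γ(Y, U)] Γ(Spec D, ⊤) := AlgEquiv.ofRingEquiv
    (f := (Scheme.ΓSpecIso D).symm.commRingCatIsoToRingEquiv) (fun r => by
      show (Scheme.ΓSpecIso D).inv (φ r) = g.appLE U ⊤ hle r
      rw [happ]; rfl)
  let E := TensorProduct.congr e.toLinearEquiv (LinearEquiv.refl Γ(Y, U) Γ(F, U))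
  have hE : ∀ m, E ((1 : D) ⊗ₜ FunDescent.secLin σ U m) = (1 : Γ(Spec D, ⊤)) ⊗ₜ FunDescent.secLin σ U m := fun m => by
    simp [E]
  constructor
  · intro h m
    apply E.injective
    rw [map_zero, hE]
    exact LinearMap.congr_fun h (1 ⊗ₜ m)
  · intro h
    refine TensorProduct.ext' fun c m => ?_
    rw [LinearMap.lTensor_tmul, LinearMap.zero_apply]
    have h2 : (1 : Γ(Spec D, ⊤)) ⊗ₜ[Γ(Y, U)] FunDescent.secLin σ U m = 0 := by rw [← hE, h m, map_zero]
    rw [show c ⊗ₜ[Γ(Y, U)] FunDescent.secLin σ U m = c • ((1 : Γ(Spec D, ⊤)) ⊗ₜ[Γ(Y, U)] FunDescent.secLin σ U m) by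
      rw [smul_tmul', smul_eq_mul, mul_one], h2, smul_zero]

end Groth.Agent.H26Van
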