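import Groth.Agent.H26Gr.VanLocus
import Mathlib

/-!
# Content of a map into a projective module, and descent of ideals
-/

set_option autoImplicit false
set_option backward.isDefEq.respectTransparency false

universe u

open TensorProduct

namespace Groth.Agent.H26Van

open H26Gr

/-- The content criterion for a map into a projective module. -/
theorem lTensor_eq_zero_iff' {A C : Type u} [CommRing A] [CommRing C] [Algebra A C] {M N : Type u}
    [AddCommGroup M] [Module A M] [AddCommGroup N] [Module A N] [Module.Projective A N] (f : M →ₗ[A] N) :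
    f.lTensor C = 0 ↔ lvanIdeal f ≤ RingHom.ker (algebraMap A C) := by
  constructor
  · intro h
    rw [lvanIdeal, Ideal.span_le]
    rintro _ ⟨x, l, rfl⟩
    have h3 := congrArg (TensorProduct.rid A C ∘ l.lTensor C) (congr($h ((1 : C) ⊗ₜ x)))
    simp only [Function.comp_apply, LinearMap.lTensor_tmul, rid_tmul, LinearMap.zero_apply, map_zero] at h3
    rw [Algebra.smul_def, mul_one] at h3
    exact RingHom.mem_ker.2 h3
  · intro h
    obtain ⟨s, hs⟩ := Module.projective_def'.1 ‹Module.Projective A N›
    refine TensorProduct.ext' fun c x => ?_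
    rw [LinearMap.lTensor_tmul, LinearMap.zero_apply, ← show Finsupp.linearCombination A id (s (f x)) = f x from
      congr($hs (f x)), Finsupp.linearCombination_apply, Finsupp.sum, tmul_sum]
    refine Finset.sum_eq_zero fun n _ => ?_
    rw [← smul_tmul]
    have h0 : algebraMap A C (s (f x) n) = 0 :=
      RingHom.mem_ker.mp (h (Ideal.subset_span ⟨x, (Finsupp.lapply n).comp s, rfl⟩))
    rw [Algebra.smul_def, h0, zero_mul, zero_tmul]

section chart

variable {R' C B B' D : Type u} [CommRing R'] [CommRing C] [CommRing B] [CommRing B'] [CommRing D]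
  [Algebra R' C] [Algebra R' B'] [Algebra R' D] [Algebra C D] [Algebra B' D] [Algebra B B'] [Algebra B D]
  [IsScalarTower R' B' D] [IsScalarTower R' C D] [IsScalarTower B B' D] [Algebra.IsPushout R' C B' D]
  {M N : Type u} [AddCommGroup M] [Module B M] [AddCommGroup N] [Module B N]

/-- Vanishing after a change of scalars, through the content over the base. -/
theorem forall_one_tmul_eq_zero_iff [Module.Projective R' (B' ⊗[B] N)] (f : M →ₗ[B] N) :
    (∀ m, (1 : D) ⊗ₜ[B] f m = 0) ↔
      lvanIdeal ((AlgebraTensorModule.lTensor B' B' f).restrictScalars R') ≤ RingHom.ker (algebraMap R' C) := by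
  rw [← lTensor_eq_zero_iff']
  let c₁ := TensorProduct.AlgebraTensorModule.cancelBaseChange B B' D D N
  let c₂ := Algebra.IsPushout.cancelBaseChange R' C B' D (B' ⊗[B] N)
  have key : ∀ m : M, c₂ (c₁.symm ((1 : D) ⊗ₜ[B] f m)) = (1 : C) ⊗ₜ[R'] ((1 : B') ⊗ₜ[B] f m) := fun m => by
    simp [c₁, c₂]
  constructor
  · intro h
    refine TensorProduct.ext' fun c p => ?_
    rw [LinearMap.lTensor_tmul, LinearMap.zero_apply]
    apply c₂.symm.injective
    rw [map_zero, Algebra.IsPushout.cancelBaseChange_symm_tmul]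
    show algebraMap C D c ⊗ₜ[B'] (AlgebraTensorModule.lTensor B' B' f p) = 0
    induction p with
    | zero => rw [map_zero, tmul_zero]
    | add a b ha hb => rw [map_add, tmul_add, ha, hb, add_zero]
    | tmul b m =>
      rw [AlgebraTensorModule.lTensor_tmul]
      apply c₁.injective
      rw [map_zero, TensorProduct.AlgebraTensorModule.cancelBaseChange_tmul]
      have : (b • algebraMap C D c) ⊗ₜ[B] f m = (b • algebraMap C D c) • ((1 : D) ⊗ₜ[B] f m) := by
        rw [smul_tmul', smul_eq_mul, mul_one]
      rw [this, h m, smul_zero]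
  · intro h m
    have h1 := LinearMap.congr_fun h ((1 : C) ⊗ₜ[R'] ((1 : B') ⊗ₜ[B] m))
    rw [LinearMap.lTensor_tmul, LinearMap.zero_apply] at h1
    apply c₁.symm.injective
    apply c₂.injective
    rw [key, map_zero, map_zero, ← h1]
    rfl

end chart

/-- A family of ideals of algebras, agreeing after base change along a jointly faithfully flat family, descends. -/
theorem exists_descended_ideal {A : Type u} [CommRing A] {ι : Type u} [Fintype ι] (R : ι → Type u)
    [∀ k, CommRing (R k)] [∀ k, Algebra A (R k)] [∀ k, Module.Flat A (R k)]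
    (J : ∀ k, Ideal (R k))
    (hJ : ∀ k l, ∀ x ∈ J k, x ⊗ₜ[A] (1 : R l ⧸ J l) = 0) :
    ∃ J₀ : Ideal A, (∀ a, a ∈ J₀ ↔ ∀ k, algebraMap A (R k) a ∈ J k) ∧ ∀ k, J₀.map (algebraMap A (R k)) = J k := by
  classical
  let J₀ : Ideal A := ⨅ k, (J k).comap (algebraMap A (R k))
  have hmem : ∀ a, a ∈ J₀ ↔ ∀ k, algebraMap A (R k) a ∈ J k := fun a => by simp [J₀, Submodule.mem_iInf]
  refine ⟨J₀, hmem, fun k => le_antisymm (Ideal.map_le_iff_le_comap.2 fun a ha => (hmem a).1 ha k) fun x hx => ?_⟩
  let ψ : (A ⧸ J₀) →ₗ[A] ((l : ι) → R l ⧸ J l) := Submodule.liftQ J₀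
    (LinearMap.pi fun l => (Algebra.linearMap A (R l ⧸ J l)))
    (fun a ha => LinearMap.mem_ker.2 (funext fun l => Ideal.Quotient.eq_zero_iff_mem.2 ((hmem a).1 ha l)))
  have hψ : Function.Injective ψ := by
    rw [injective_iff_map_eq_zero]
    intro a ha
    obtain ⟨a, rfl⟩ := Submodule.Quotient.mk_surjective J₀ a
    exact (Submodule.Quotient.mk_eq_zero J₀).2 ((hmem a).2 fun l =>
      Ideal.Quotient.eq_zero_iff_mem.1 (congrFun ha l))
  have h1 : x ⊗ₜ[A] (Submodule.Quotient.mk 1 : A ⧸ J₀) = 0 := by
    refine Module.Flat.lTensor_preserves_injective_linearMap (M := R k) ψ hψ ?_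
    rw [map_zero, LinearMap.lTensor_tmul]
    apply (TensorProduct.piRight A A (R k) fun l => R l ⧸ J l).injective
    rw [map_zero, TensorProduct.piRight_apply]
    funext l
    simp only [TensorProduct.piRightHom_tmul, Pi.zero_apply]
    convert hJ k l x hx using 2
    exact map_one (algebraMap A (R l ⧸ J l))
  have h2 := congrArg (TensorProduct.tensorQuotEquivQuotSMul (R k) J₀) h1
  rw [map_zero] at h2
  have h3 : TensorProduct.tensorQuotEquivQuotSMul (R k) J₀ (x ⊗ₜ[A] (Submodule.Quotient.mk 1 : A ⧸ J₀)) =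
      Submodule.Quotient.mk x := by
    refine (TensorProduct.tensorQuotEquivQuotSMul_tmul_mk (R := A) (M := R k) J₀ x 1).trans ?_
    rw [one_smul]
  rw [h3, Submodule.Quotient.mk_eq_zero, Ideal.smul_top_eq_map] at h2
  exact h2

end Groth.Agent.H26Van
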