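import Groth.Agent.H26Van.Affine
import Groth.Agent.S1202
import Groth.Agent.H8Props.FlatLocus.Sections
import Groth.Agent.H4Depth.FlatFour
import Mathlib

/-!
# Charts with projective sections
-/

set_option autoImplicit false
set_option linter.style.haveILetI false
set_option backward.isDefEq.respectTransparency false
set_option backward.isDefEq.respectTransparency.types false

universe u

open CategoryTheory CategoryTheory.Limits AlgebraicGeometry TopologicalSpace TensorProduct

namespace Groth.Agent.H26Van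

open H8Props H06Mod

variable {Y S : Scheme.{u}} (q : Y ⟶ S)

/-- The projection between the base changes along `b : T → T'` over `S`. -/
noncomputable def bcMap {T T' : Scheme.{u}} (e : T' ⟶ S) (b : T ⟶ T') :
    pullback q (b ≫ e) ⟶ pullback q e :=
  pullback.lift (pullback.fst q _) (pullback.snd q _ ≫ b) (by rw [Category.assoc]; exact pullback.condition)

@[simp, reassoc]
theorem bcMap_fst {T T' : Scheme.{u}} (e : T' ⟶ S) (b : T ⟶ T') :
    bcMap q e b ≫ pullback.fst q e = pullback.fst q (b ≫ e) :=
  pullback.lift_fst _ _ _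

@[simp, reassoc]
theorem bcMap_snd {T T' : Scheme.{u}} (e : T' ⟶ S) (b : T ⟶ T') :
    bcMap q e b ≫ pullback.snd q e = pullback.snd q (b ≫ e) ≫ b :=
  pullback.lift_snd _ _ _

theorem isPullback_bcMap {T T' : Scheme.{u}} (e : T' ⟶ S) (b : T ⟶ T') :
    IsPullback (bcMap q e b) (pullback.snd q (b ≫ e)) (pullback.snd q e) b := by
  refine IsPullback.of_right ?_ (bcMap_snd q e b) (IsPullback.of_hasPullback q e)
  rw [bcMap_fst]
  exact IsPullback.of_hasPullback q (b ≫ e)

/-- The residue field map of an étale neighbourhood gives a preimmersion to the base. -/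
theorem isPreimmersion_residue {A R' : Type u} [CommRing A] [CommRing R'] [Algebra A R'] (p : Ideal A)
    (p' : Ideal R') [p.IsPrime] [p'.IsPrime] (h : FlatCA.IsEtaleNhd A R' p p') :
    IsPreimmersion (Spec.map (CommRingCat.ofHom (algebraMap R' p'.ResidueField)) ≫
      Spec.map (CommRingCat.ofHom (algebraMap A R'))) := by
  obtain ⟨-, hover, hbij⟩ := h
  let μ : p.ResidueField →ₐ[A] p'.ResidueField :=
    Ideal.ResidueField.mapₐ p p' (Algebra.ofId A R') hover.over
  have hfac : CommRingCat.ofHom (algebraMap A R') ≫ CommRingCat.ofHom (algebraMap R' p'.ResidueField) =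
      CommRingCat.ofHom (algebraMap A p.ResidueField) ≫ CommRingCat.ofHom μ.toRingHom := by
    ext a
    exact ((μ.commutes a).trans (IsScalarTower.algebraMap_apply A R' p'.ResidueField a)).symm
  rw [← Spec.map_comp, hfac, Spec.map_comp]
  haveI : IsIso (CommRingCat.ofHom μ.toRingHom) := (RingEquiv.ofBijective μ.toRingHom hbij).toCommRingCatIso.isIso_hom
  haveI : IsPreimmersion (Spec.map (CommRingCat.ofHom (algebraMap A p.ResidueField))) := by
    let L := Localization.AtPrime p
    haveI : IsClosedImmersion (Spec.map (CommRingCat.ofHom (algebraMap L p.ResidueField))) :=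
      IsClosedImmersion.spec_of_surjective _ IsLocalRing.residue_surjective
    haveI : IsPreimmersion (Spec.map (CommRingCat.ofHom (algebraMap A L))) :=
      IsPreimmersion.of_isLocalization p.primeCompl
    rw [IsScalarTower.algebraMap_eq A L p.ResidueField, CommRingCat.ofHom_comp, Spec.map_comp]
    infer_instance
  infer_instance

variable {G F : Y.Modules} (σ : G ⟶ F)

omit G F σ in
theorem closedPoint_residue {R' : Type u} [CommRing R'] (p' : Ideal R') [p'.IsPrime] :
    Spec.map (CommRingCat.ofHom (algebraMap R' p'.ResidueField)) (IsLocalRing.closedPoint p'.ResidueField) =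
      (⟨p', inferInstance⟩ : Spec (CommRingCat.of R')) := by
  refine PrimeSpectrum.ext ?_
  show Ideal.comap (algebraMap R' p'.ResidueField) (IsLocalRing.maximalIdeal _) = p'
  rw [IsLocalRing.maximalIdeal_eq_bot, ← RingHom.ker_eq_comap_bot, Ideal.ker_algebraMap_residueField]

/-- An open map to a base change covers, over a point with preimmersive residue field, the preimage of an open set. -/
theorem exists_open_fibre {S' V K : Scheme.{u}} (e : S' ⟶ S) (v : V ⟶ pullback q e) [Flat v]
    [LocallyOfFinitePresentation v] (κ : K ⟶ S') (c : K) (hκ : IsPreimmersion (κ ≫ e)) (z : V) (y : Y)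
    (hfz : pullback.fst q e (v z) = y) (hsz : pullback.snd q e (v z) = κ c) :
    ∃ O : Y.Opens, y ∈ O ∧ ∀ w : (pullback q e : Scheme.{u}),
      pullback.snd q e w = κ c → pullback.fst q e w ∈ O → w ∈ Set.range v := by
  let π := pullback.fst (pullback.snd q e) κ ≫ pullback.fst q e
  haveI : IsPreimmersion π :=
    MorphismProperty.of_isPullback (P := @IsPreimmersion)
      ((IsPullback.of_hasPullback (pullback.snd q e) κ).paste_horiz (IsPullback.of_hasPullback q e)).flip hκ
  have hopen : IsOpen ((pullback.fst (pullback.snd q e) κ) ⁻¹' Set.range v) :=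
    v.isOpenMap.isOpen_range.preimage (pullback.fst (pullback.snd q e) κ).continuous
  obtain ⟨O, hO, hOeq⟩ := π.isEmbedding.isInducing.isOpen_iff.1 hopen
  refine ⟨⟨O, hO⟩, ?_, fun w hw hwO => ?_⟩
  · obtain ⟨r, hr, -⟩ := Scheme.Pullback.exists_preimage_pullback (f := pullback.snd q e) (g := κ) (v z) c hsz
    have : r ∈ π ⁻¹' O := hOeq ▸ ⟨z, hr.symm⟩
    rw [← hfz, ← hr, ← Scheme.Hom.comp_apply]
    exact this
  · obtain ⟨r, hr, -⟩ := Scheme.Pullback.exists_preimage_pullback (f := pullback.snd q e) (g := κ) w c hw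
    have : r ∈ π ⁻¹' O := by
      show π r ∈ O
      rw [Scheme.Hom.comp_apply, hr]; exact hwO
    rw [hOeq] at this
    exact hr ▸ this

set_option maxHeartbeats 1600000 in
/-- The vanishing criterion on a chart. -/
theorem van_chart_iff (hG : Coh.IsQCoh G) (hF : Coh.IsQCoh F) {U : Y.Opens} (hU : IsAffineOpen U)
    {R' B' : Type u} [CommRing R'] [CommRing B'] [Algebra Γ(Y, U) B'] [Algebra R' B']
    [Module.Projective R' (B' ⊗[Γ(Y, U)] Γ(F, U))] (e : Spec (CommRingCat.of R') ⟶ S)
    (v : Spec (CommRingCat.of B') ⟶ pullback q e)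
    (hv1 : v ≫ pullback.fst q e = Spec.map (CommRingCat.ofHom (algebraMap Γ(Y, U) B')) ≫ hU.fromSpec)
    (hv2 : v ≫ pullback.snd q e = Spec.map (CommRingCat.ofHom (algebraMap R' B')))
    (C : CommRingCat.{u}) (φ : CommRingCat.of R' ⟶ C) :
    Van σ (pullback.fst v (bcMap q e (Spec.map φ)) ≫ v ≫ pullback.fst q e) ↔
      H26Gr.lvanIdeal ((AlgebraTensorModule.lTensor B' B' (FunDescent.secLin σ U)).restrictScalars R') ≤
        RingHom.ker φ.hom := by
  letI : Algebra R' C := φ.hom.toAlgebra
  let D := C ⊗[R'] B'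
  letI : Algebra B' D := Algebra.TensorProduct.rightAlgebra
  letI : Algebra Γ(Y, U) D := ((algebraMap B' D).comp (algebraMap Γ(Y, U) B')).toAlgebra
  haveI : IsScalarTower Γ(Y, U) B' D := .of_algebraMap_eq fun _ => rfl
  haveI : Algebra.IsPushout R' C B' D := TensorProduct.isPushout
  have hsq : IsPullback (Spec.map (CommRingCat.ofHom (algebraMap B' D))) (Spec.map (CommRingCat.ofHom (algebraMap C D)))
      (Spec.map (CommRingCat.ofHom (algebraMap R' B'))) (Spec.map φ) :=
    (isPullback_SpecMap_of_isPushout φ (CommRingCat.ofHom (algebraMap R' B'))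
      (CommRingCat.ofHom (algebraMap C D)) (CommRingCat.ofHom (algebraMap B' D))
      (CommRingCat.isPushout_of_isPushout R' C B' D)).flip
  have hZ : IsPullback (pullback.fst v (bcMap q e (Spec.map φ)))
      (pullback.snd v (bcMap q e (Spec.map φ)) ≫ pullback.snd q (Spec.map φ ≫ e))
      (Spec.map (CommRingCat.ofHom (algebraMap R' B'))) (Spec.map φ) :=
    hv2 ▸ (IsPullback.of_hasPullback v (bcMap q e (Spec.map φ))).paste_vert (isPullback_bcMap q e (Spec.map φ))
  let i := hsq.isoIsPullback _ _ hZ
  have hi : i.hom ≫ pullback.fst v (bcMap q e (Spec.map φ)) = Spec.map (CommRingCat.ofHom (algebraMap B' D)) :=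
    IsPullback.isoIsPullback_hom_fst _ _ hsq hZ
  have hcomp : i.hom ≫ pullback.fst v (bcMap q e (Spec.map φ)) ≫ v ≫ pullback.fst q e =
      Spec.map (CommRingCat.ofHom (algebraMap Γ(Y, U) D)) ≫ hU.fromSpec := by
    rw [reassoc_of% hi, hv1, ← Spec.map_comp_assoc]
    rfl
  have h1 : Van σ (pullback.fst v (bcMap q e (Spec.map φ)) ≫ v ≫ pullback.fst q e) ↔
      Van σ (Spec.map (CommRingCat.ofHom (algebraMap Γ(Y, U) D)) ≫ hU.fromSpec) := by
    rw [← hcomp]
    refine ⟨fun h => h.comp _, fun h => ?_⟩
    have := h.comp i.inv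
    rwa [Iso.inv_hom_id_assoc] at this
  rw [h1, van_specMap_iff hG hF hU (CommRingCat.ofHom (algebraMap Γ(Y, U) D))]
  exact forall_one_tmul_eq_zero_iff (R' := R') (C := C) (B' := B') (D := D) (FunDescent.secLin σ U)

/-- Projectivity for the restricted scalars. -/
theorem projective_of_restrictScalars (R' B' P : Type u) [CommRing R'] [CommRing B'] [Algebra R' B']
    [AddCommGroup P] [Module B' P] [Module R' P] (hsmul : ∀ (r : R') (t : P), algebraMap R' B' r • t = r • t)
    (h : Module.Projective R' (RestrictScalars R' B' P)) : Module.Projective R' P :=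
  Module.Projective.of_equiv (M := RestrictScalars R' B' P)
    ((RestrictScalars.addEquiv R' B' P).toLinearEquiv fun (r : R') x => by
      rw [RestrictScalars.addEquiv_map_smul, hsmul])

set_option maxHeartbeats 1600000 in
/-- A chart around a point: an étale neighbourhood and an étale piece with projective sections. -/
theorem exists_chart [LocallyOfFinitePresentation q] (hG : Coh.IsQCoh G) (hFP : CohB1.IsFP F)
    (hFfl : FlatMod.IsFlatOver q F) {W : S.Opens} (hW : IsAffineOpen W) (y : Y) (hy : q y ∈ W) :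
    ∃ (R' : CommRingCat.{u}) (e : Spec R' ⟶ S) (s' : Spec R') (V : Scheme.{u}) (v : V ⟶ pullback q e)
      (J : Ideal R'), Etale e ∧ Etale v ∧ e s' = q y ∧
      (∃ O : Y.Opens, y ∈ O ∧ ∀ w : (pullback q e : Scheme.{u}),
        pullback.snd q e w = s' → pullback.fst q e w ∈ O → w ∈ Set.range v) ∧
      ∀ (C : CommRingCat.{u}) (φ : R' ⟶ C),
        Van σ (pullback.fst v (bcMap q e (Spec.map φ)) ≫ v ≫ pullback.fst q e) ↔ J ≤ RingHom.ker φ.hom := by
  have hFq : Coh.IsQCoh F := H29Fitt.isQCoh_of_isFP F hFP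
  obtain ⟨U, hU, hyU, hUW⟩ := exists_isAffineOpen_mem_and_subset (x := y) (U := q ⁻¹ᵁ W) hy
  let A := Γ(S, W)
  let B := Γ(Y, U)
  let ψ := q.appLE W U hUW
  letI algAB : Algebra A B := ψ.hom.toAlgebra
  letI := Module.compHom Γ(F, U) ψ.hom
  haveI : IsScalarTower A B Γ(F, U) := .of_algebraMap_smul fun _ _ => rfl
  haveI : Algebra.FinitePresentation A B := Scheme.Hom.finitePresentation_appLE q hW hU hUW
  haveI := FinLocFree.finitePresentation_sections F hFP hU
  haveI : Module.Flat A Γ(F, U) :=
    (FlatLocus.flat_sections_over_iff q F hFq hW hU hUW).2 fun x => hFfl x.1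
  let qy : PrimeSpectrum B := hU.primeIdealOf ⟨y, hyU⟩
  let p : Ideal A := qy.asIdeal.comap (algebraMap A B)
  haveI : qy.asIdeal.LiesOver p := ⟨rfl⟩
  obtain ⟨R', B', _, _, _, _, _, _, _, _, p', q', _, _, hp', hq', hqp, hproj⟩ :=
    S1202.result Γ(F, U) p qy.asIdeal (H4Depth.flatAt_of_flat qy)
  have hsmul : ∀ (r : R') (t : B' ⊗[B] Γ(F, U)), algebraMap R' B' r • t = r • t := fun r t => by
    induction t with
    | zero => simp
    | add a b ha hb => rw [smul_add, smul_add, ha, hb]
    | tmul b m => rw [TensorProduct.smul_tmul', TensorProduct.smul_tmul', smul_eq_mul, Algebra.smul_def]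
  haveI : Module.Projective R' (B' ⊗[B] Γ(F, U)) :=
    projective_of_restrictScalars R' B' (B' ⊗[B] Γ(F, U)) hsmul hproj
  haveI : Algebra.Etale A R' := hp'.1
  haveI : Algebra.Etale B B' := hq'.1
  let e₀ : Spec (CommRingCat.of R') ⟶ Spec A := Spec.map (CommRingCat.ofHom (algebraMap A R'))
  haveI : Etale e₀ := HasRingHomProperty.Spec_iff.2 (RingHom.etale_algebraMap.2 hp'.1)
  let e : Spec (CommRingCat.of R') ⟶ S := e₀ ≫ hW.fromSpec
  let a : Spec (CommRingCat.of B') ⟶ Spec B := Spec.map (CommRingCat.ofHom (algebraMap B B'))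
  haveI : Etale a := HasRingHomProperty.Spec_iff.2 (RingHom.etale_algebraMap.2 hq'.1)
  let b : Spec (CommRingCat.of B') ⟶ Spec (CommRingCat.of R') :=
    Spec.map (CommRingCat.ofHom (algebraMap R' B'))
  have hab : (a ≫ hU.fromSpec) ≫ q = b ≫ e := by
    simp only [a, b, e, e₀, Category.assoc]
    rw [← hW.SpecMap_appLE_fromSpec q hU hUW, ← Spec.map_comp_assoc, ← Spec.map_comp_assoc]
    congr 2
    ext x
    exact (IsScalarTower.algebraMap_apply A B B' x).symm.trans (IsScalarTower.algebraMap_apply A R' B' x)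
  let v : Spec (CommRingCat.of B') ⟶ pullback q e := pullback.lift (a ≫ hU.fromSpec) b hab
  have hv1 : v ≫ pullback.fst q e = a ≫ hU.fromSpec := pullback.lift_fst _ _ _
  have hv2 : v ≫ pullback.snd q e = b := pullback.lift_snd _ _ _
  haveI : Etale e := inferInstance
  haveI : Etale v := by
    haveI : Etale (v ≫ pullback.fst q e) := by rw [hv1]; infer_instance
    exact Etale.of_comp v (pullback.fst q e)
  let s' : Spec (CommRingCat.of R') := ⟨p', inferInstance⟩
  let z : Spec (CommRingCat.of B') := ⟨q', inferInstance⟩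
  have hbz : b z = s' := PrimeSpectrum.ext hqp.over.symm
  have haz : hU.fromSpec (a z) = y := by
    obtain ⟨-, h, -⟩ := hq'
    rw [show a z = qy from PrimeSpectrum.ext h.over.symm]
    exact hU.fromSpec_primeIdealOf ⟨y, hyU⟩
  have hfz : pullback.fst q e (v z) = y := by rw [← Scheme.Hom.comp_apply, hv1]; exact haz
  have hsz : pullback.snd q e (v z) = s' := by rw [← Scheme.Hom.comp_apply, hv2]; exact hbz
  have hes : e s' = q y := by
    rw [← hsz, ← hfz, ← Scheme.Hom.comp_apply (pullback.snd q e) e, ← Scheme.Hom.comp_apply (pullback.fst q e) q, pullback.condition]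
  have hOb : ∃ O : Y.Opens, y ∈ O ∧ ∀ w : (pullback q e : Scheme.{u}),
      pullback.snd q e w = s' → pullback.fst q e w ∈ O → w ∈ Set.range v := by
    refine exists_open_fibre q e v (Spec.map (CommRingCat.ofHom (algebraMap R' p'.ResidueField)))
      (IsLocalRing.closedPoint p'.ResidueField) ?_ z y hfz (hsz.trans ?_) |>.imp fun O hO => ⟨hO.1, fun w hw => ?_⟩
    · haveI := isPreimmersion_residue p p' hp'
      simp only [e, ← Category.assoc]
      exact IsPreimmersion.comp _ _
    · exact (closedPoint_residue p').symm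
    · exact hO.2 w (hw.trans (closedPoint_residue p').symm)
  exact ⟨CommRingCat.of R', e, s', _, v,
    H26Gr.lvanIdeal ((AlgebraTensorModule.lTensor B' B' (FunDescent.secLin σ U)).restrictScalars R'),
    inferInstance, inferInstance, hes, hOb, fun C φ => van_chart_iff q σ hG hFq hU e v hv1 hv2 C φ⟩

end Groth.Agent.H26Van
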