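import Groth.Agent.H26Van.Local
import Mathlib

/-!
# The vanishing ideal over an étale neighbourhood
-/

set_option autoImplicit false
set_option linter.style.haveILetI false
set_option backward.isDefEq.respectTransparency false
set_option backward.isDefEq.respectTransparency.types false

universe u

open CategoryTheory CategoryTheory.Limits AlgebraicGeometry TopologicalSpace

namespace Groth.Agent.H26Van

open H8Props H06Mod

variable {Y S : Scheme.{u}} (q : Y ⟶ S) {G F : Y.Modules} (σ : G ⟶ F)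

omit G F σ in
theorem bcMap_flat {T T' : Scheme.{u}} (e : T' ⟶ S) (b : T ⟶ T') [Flat b] : Flat (bcMap q e b) :=
  MorphismProperty.of_isPullback (P := @Flat) (isPullback_bcMap q e b).flip ‹_›

/-- Vanishing over a base passes to a base above it. -/
theorem van_base_comp {T T' : Scheme.{u}} (e : T' ⟶ S) (b : T ⟶ T') (h : Van σ (pullback.fst q e)) :
    Van σ (pullback.fst q (b ≫ e)) := by
  rw [← bcMap_fst]
  exact h.comp _

/-- Vanishing over a base is detected on a flat covering of the base. -/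
theorem van_base_of_cover {T : Scheme.{u}} (e : T ⟶ S) {ι : Type*} (Ti : ι → Scheme.{u}) (b : ∀ i, Ti i ⟶ T)
    (hfl : ∀ i, Flat (b i)) (hsur : ∀ t : T, ∃ i, t ∈ Set.range (b i))
    (h : ∀ i, Van σ (pullback.fst q (b i ≫ e))) : Van σ (pullback.fst q e) := by
  refine van_of_cover (pullback.fst q e) _ (fun i => bcMap q e (b i))
    (fun i => haveI := hfl i; bcMap_flat q e (b i)) (fun w => ?_) (fun i => by rw [bcMap_fst]; exact h i)
  obtain ⟨i, t, ht⟩ := hsur (pullback.snd q e w)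
  obtain ⟨r, hr, -⟩ := Scheme.Pullback.exists_preimage_pullback (f := pullback.snd q e) (g := b i) w t ht.symm
  exact ⟨i, (isPullback_bcMap q e (b i)).isoPullback.inv r, by
    rw [← Scheme.Hom.comp_apply, IsPullback.isoPullback_inv_fst]; exact hr⟩

/-- The projection between base changes, for a factorisation up to equality. -/
noncomputable def bcMap' {T T' : Scheme.{u}} (e : T' ⟶ S) (t : T ⟶ S) (b : T ⟶ T') (h : b ≫ e = t) :
    pullback q t ⟶ pullback q e :=
  pullback.lift (pullback.fst q _) (pullback.snd q _ ≫ b) (by rw [Category.assoc, h]; exact pullback.condition)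

omit G F σ in
@[simp, reassoc]
theorem bcMap'_fst {T T' : Scheme.{u}} (e : T' ⟶ S) (t : T ⟶ S) (b : T ⟶ T') (h : b ≫ e = t) :
    bcMap' q e t b h ≫ pullback.fst q e = pullback.fst q t :=
  pullback.lift_fst _ _ _

omit G F σ in
@[simp, reassoc]
theorem bcMap'_snd {T T' : Scheme.{u}} (e : T' ⟶ S) (t : T ⟶ S) (b : T ⟶ T') (h : b ≫ e = t) :
    bcMap' q e t b h ≫ pullback.snd q e = pullback.snd q t ≫ b :=
  pullback.lift_snd _ _ _

theorem van_piece_iff {T T' V : Scheme.{u}} (e : T' ⟶ S) (v : V ⟶ pullback q e) (t : T ⟶ S) (b : T ⟶ T')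
    (h : b ≫ e = t) :
    Van σ (pullback.fst v (bcMap' q e t b h) ≫ v ≫ pullback.fst q e) ↔
      Van σ (pullback.fst v (bcMap q e b) ≫ v ≫ pullback.fst q e) := by
  subst h
  exact Iff.rfl

/-- Vanishing over a base, through pieces covering the base change. -/
theorem van_base_iff_pieces {T : Scheme.{u}} (t : T ⟶ S) {ι : Type*} (T' V : ι → Scheme.{u})
    (e : ∀ i, T' i ⟶ S) (v : ∀ i, V i ⟶ pullback q (e i)) (hv : ∀ i, Flat (v i)) (b : ∀ i, T ⟶ T' i)
    (h : ∀ i, b i ≫ e i = t)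
    (hcov : ∀ w : (pullback q t : Scheme.{u}), ∃ i, bcMap' q (e i) t (b i) (h i) w ∈ Set.range (v i)) :
    Van σ (pullback.fst q t) ↔
      ∀ i, Van σ (pullback.fst (v i) (bcMap q (e i) (b i)) ≫ v i ≫ pullback.fst q (e i)) := by
  refine ⟨fun hvan i => ?_, fun hvan => ?_⟩
  · rw [← van_piece_iff q σ (e i) (v i) t (b i) (h i), pullback.condition_assoc, bcMap'_fst]
    exact hvan.comp _
  · refine van_of_cover _ _ (fun i => pullback.snd (v i) (bcMap' q (e i) t (b i) (h i)))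
      (fun i => haveI := hv i; inferInstance) (fun w => ?_) (fun i => ?_)
    · obtain ⟨i, z, hz⟩ := hcov w
      obtain ⟨r, -, hr⟩ := Scheme.Pullback.exists_preimage_pullback (f := v i)
        (g := bcMap' q (e i) t (b i) (h i)) z w hz
      exact ⟨i, r, hr⟩
    · rw [← bcMap'_fst q (e i) t (b i) (h i), ← pullback.condition_assoc, van_piece_iff q σ (e i) (v i) t (b i) (h i)]
      exact hvan i

set_option maxHeartbeats 1600000 in
/-- Over an étale neighbourhood of a point the vanishing locus is closed. -/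
theorem exists_nbhd [IsProper q] [LocallyOfFinitePresentation q] (hG : Coh.IsQCoh G) (hFP : CohB1.IsFP F)
    (hFfl : FlatMod.IsFlatOver q F) {W : S.Opens} (hW : IsAffineOpen W) (s : S) (hs : s ∈ W) :
    ∃ (R : CommRingCat.{u}) (ψ : Γ(S, W) ⟶ R) (J : Ideal R), Etale (Spec.map ψ) ∧
      s ∈ Set.range (Spec.map ψ ≫ hW.fromSpec) ∧
      ∀ (C : CommRingCat.{u}) (φ : R ⟶ C),
        Van σ (pullback.fst q (Spec.map (ψ ≫ φ) ≫ hW.fromSpec)) ↔ J ≤ RingHom.ker φ.hom := by
  classical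
  choose R' e s' V v J hEt hfl hes hO hcrit using fun y : {y : Y // q y = s} =>
    exists_chart q σ hG hFP hFfl hW y.1 (y.2.symm ▸ hs)
  choose O hyO hOv using hO
  obtain ⟨t, ht⟩ := (q.isCompact_preimage_singleton s).elim_finite_subcover (fun y => (O y : Set Y))
    (fun y => (O y).2) (fun y hy => Set.mem_iUnion.2 ⟨⟨y, hy⟩, hyO ⟨y, hy⟩⟩)
  obtain ⟨S₁, e₁, s₁, he₁, hs₁, hg⟩ : ∃ (S₁ : Scheme.{u}) (e₁ : S₁ ⟶ S) (s₁ : S₁), Etale e₁ ∧ e₁ s₁ = s ∧
      ∀ y ∈ t, ∃ g : S₁ ⟶ Spec (R' y), g ≫ e y = e₁ ∧ g s₁ = s' y := by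
    clear ht
    induction t using Finset.induction with
    | empty =>
      exact ⟨W, W.ι, ⟨s, hs⟩, inferInstance, rfl, fun y hy => absurd hy (Finset.notMem_empty y)⟩
    | insert y t _ ih =>
      obtain ⟨S₁, e₁, s₁, he₁, hs₁, hg⟩ := ih
      obtain ⟨r, hr1, hr2⟩ := Scheme.Pullback.exists_preimage_pullback (f := e₁) (g := e y) s₁ (s' y)
        (by rw [hs₁, hes, y.2])
      haveI := he₁
      haveI := hEt y
      refine ⟨pullback e₁ (e y), pullback.fst e₁ (e y) ≫ e₁, r, inferInstance, ?_, fun z hz => ?_⟩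
      · rw [Scheme.Hom.comp_apply, hr1, hs₁]
      · rcases Finset.mem_insert.1 hz with rfl | hz'
        · exact ⟨pullback.snd _ _, pullback.condition.symm, hr2⟩
        · obtain ⟨g, hge, hgs⟩ := hg z hz'
          exact ⟨pullback.fst e₁ (e y) ≫ g, by rw [Category.assoc, hge], by rw [Scheme.Hom.comp_apply, hr1, hgs]⟩
  choose g hge hgs using hg
  -- the bad points
  let k : ∀ y : {y // y ∈ t}, pullback q e₁ ⟶ pullback q (e y.1) := fun y =>
    bcMap' q (e y.1) e₁ (g y.1 y.2) (hge y.1 y.2)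
  let N : Set (pullback q e₁ : Scheme.{u}) := ⋃ y : {y // y ∈ t}, (k y) ⁻¹' Set.range (v y.1)
  have hN : IsOpen N := isOpen_iUnion fun y => by
    haveI := hfl y.1
    exact (v y.1).isOpenMap.isOpen_range.preimage (k y).continuous
  have hbad : IsClosed (pullback.snd q e₁ '' Nᶜ) := (pullback.snd q e₁).isClosedMap _ hN.isClosed_compl
  have hs₁bad : s₁ ∉ pullback.snd q e₁ '' Nᶜ := by
    rintro ⟨w, hw, hws⟩
    refine hw ?_
    have hqy : q (pullback.fst q e₁ w) = s := by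
      rw [← Scheme.Hom.comp_apply, pullback.condition, Scheme.Hom.comp_apply, hws, hs₁]
    obtain ⟨y, hy⟩ := Set.mem_iUnion₂.1 (ht hqy)
    refine Set.mem_iUnion.2 ⟨⟨y, hy.1⟩, hOv y _ ?_ ?_⟩
    · rw [← Scheme.Hom.comp_apply, bcMap'_snd, Scheme.Hom.comp_apply, hws, hgs]
    · rw [← Scheme.Hom.comp_apply, bcMap'_fst]; exact hy.2
  obtain ⟨U₁, hU₁, hs₁U, hU₁N⟩ := exists_isAffineOpen_mem_and_subset (x := s₁)
    (U := (⟨_, hbad.isOpen_compl⟩ : S₁.Opens) ⊓ e₁ ⁻¹ᵁ W) ⟨hs₁bad, by rw [← hs₁] at hs; exact hs⟩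
  let eR : Spec Γ(S₁, U₁) ⟶ S := hU₁.fromSpec ≫ e₁
  have hrange : Set.range eR ⊆ Set.range hW.fromSpec := by
    rw [hW.range_fromSpec]
    rintro _ ⟨x, rfl⟩
    exact (hU₁N (hU₁.range_fromSpec.le ⟨x, rfl⟩)).2
  let ψ : Γ(S, W) ⟶ Γ(S₁, U₁) := Spec.preimage (IsOpenImmersion.lift hW.fromSpec eR hrange)
  have hψ : Spec.map ψ ≫ hW.fromSpec = eR := by rw [Spec.map_preimage, IsOpenImmersion.lift_fac]
  let ψi : ∀ y : {y // y ∈ t}, R' y.1 ⟶ Γ(S₁, U₁) := fun y => Spec.preimage (hU₁.fromSpec ≫ g y.1 y.2)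
  refine ⟨Γ(S₁, U₁), ψ, ⨆ y, (J y.1).map (ψi y).hom, ?_, ?_, fun C φ => ?_⟩
  · haveI := he₁
    haveI : Etale (Spec.map ψ ≫ hW.fromSpec) := by rw [hψ]; infer_instance
    exact Etale.of_comp (Spec.map ψ) hW.fromSpec
  · obtain ⟨x, hx⟩ := hU₁.range_fromSpec.ge hs₁U
    exact ⟨x, by rw [hψ, Scheme.Hom.comp_apply, hx, hs₁]⟩
  · have ht' : ∀ y : {y // y ∈ t}, Spec.map (ψi y ≫ φ) ≫ e y.1 = Spec.map (ψ ≫ φ) ≫ hW.fromSpec := fun y => by
      rw [Spec.map_comp, Spec.map_comp, Category.assoc, Category.assoc, hψ, Spec.map_preimage, Category.assoc, hge]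
    rw [van_base_iff_pieces q σ _ (fun y : {y // y ∈ t} => Spec (R' y.1)) (fun y => V y.1) (fun y => e y.1)
      (fun y => v y.1) (fun y => haveI := hfl y.1; inferInstance) (fun y => Spec.map (ψi y ≫ φ)) ht' ?_]
    · simp only [hcrit, iSup_le_iff, Ideal.map_le_iff_le_comap, CommRingCat.hom_comp, RingHom.comap_ker]
    · intro w
      let m := bcMap' q e₁ (Spec.map (ψ ≫ φ) ≫ hW.fromSpec) (Spec.map φ ≫ hU₁.fromSpec)
        (by rw [Spec.map_comp, Category.assoc, Category.assoc, hψ])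
      have hm : m w ∈ N := by
        by_contra hc
        have h1 : pullback.snd q e₁ (m w) ∈ U₁ := by
          rw [← Scheme.Hom.comp_apply, bcMap'_snd, Scheme.Hom.comp_apply, Scheme.Hom.comp_apply]
          exact hU₁.range_fromSpec.le ⟨_, rfl⟩
        exact (hU₁N h1).1 ⟨m w, hc, rfl⟩
      obtain ⟨y, hy⟩ := Set.mem_iUnion.1 hm
      refine ⟨y, ?_⟩
      have hk : m ≫ k y = bcMap' q (e y.1) (Spec.map (ψ ≫ φ) ≫ hW.fromSpec) (Spec.map (ψi y ≫ φ)) (ht' y) := by
        refine pullback.hom_ext ?_ ?_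
        · rw [Category.assoc, bcMap'_fst, bcMap'_fst, bcMap'_fst]
        · rw [Category.assoc, bcMap'_snd, bcMap'_snd_assoc, bcMap'_snd, Category.assoc]
          simp only [ψi, Spec.map_comp, Spec.map_preimage]
      rw [← hk]
      exact hy

end Groth.Agent.H26Van
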